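import Groth.Prelude.Def_DefoSh2
import Groth.Agent.Dcoh.StalkMod
import Groth.Agent.FlatA.LocalCriterion
import Mathlib.Algebra.Homology.ShortComplex.ShortExact
import Mathlib.RingTheory.Flat.EquationalCriterion

/-!
# First-order deformations of a module: the extension attached to a deformation

* `epi_π`, `eps`: for a first-order deformation `D` of `E` there is a unique `eps D : E ⟶ D.sheaf` with `D.π ≫ eps D = ε`.
* `shortExact`: `0 → E → D.sheaf → E → 0` is short exact.
* `ofExt`: conversely, a short exact sequence with both ends `E` is a first-order deformation.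
-/

set_option autoImplicit false
universe u

open CategoryTheory CategoryTheory.Limits AlgebraicGeometry TopologicalSpace Opposite DefoSh
open ArtFun ArtFun.Art
open Groth.Agent.CycB.StalkExact Groth.Agent.Dcoh.StalkMod

namespace K927.DefoSh

variable {k : Type u} [Field k] {X : Scheme.{u}} [X.Over (Spec (CommRingCat.of k))]

variable (k) in
/-- The element `ε` of the dual numbers, as an element of the carrier of `dual k k`. -/
def ep : (dual k k : Art k k) := (DualNumber.eps : DualNumber k)

theorem isNilpotent_maximalIdeal (A : Art k k) : IsNilpotent (IsLocalRing.maximalIdeal A) :=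
  IsLocalRing.jacobson_eq_maximalIdeal (R := A) ⊥ bot_ne_top ▸
    IsArtinianRing.isNilpotent_jacobson_bot

theorem ep_mul_ep : ep k * ep k = 0 := DualNumber.eps_mul_eps

theorem res_ep : (dual k k : Art k k).res (ep k) = 0 := by
  change TrivSqZeroExt.fst (DualNumber.eps : DualNumber k) = 0
  simp

theorem ep_mem : ep k ∈ IsLocalRing.maximalIdeal (dual k k) := by
  rw [mem_maximalIdeal_iff]; exact res_ep

theorem eq_add' (a : DualNumber k) :
    a = algebraMap k (DualNumber k) a.fst + algebraMap k (DualNumber k) a.snd * DualNumber.eps := by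
  ext
  · simp [TrivSqZeroExt.algebraMap_eq_inl]
  · simp [TrivSqZeroExt.algebraMap_eq_inl]

theorem eq_add (a : (dual k k : Art k k)) :
    ∃ c : k, a = algebraMap k (dual k k) ((dual k k : Art k k).res a) + algebraMap k (dual k k) c * ep k :=
  ⟨_, eq_add' a⟩

/-- The elements of the maximal ideal are the multiples of `ε`. -/
theorem mem_maximalIdeal_dual (a : (dual k k : Art k k)) (ha : a ∈ IsLocalRing.maximalIdeal (dual k k)) :
    ∃ c : k, a = algebraMap k (dual k k) c * ep k := by
  obtain ⟨c, hc⟩ := eq_add a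
  rw [mem_maximalIdeal_iff] at ha
  exact ⟨c, by rw [hc, ha, map_zero, zero_add]⟩

variable {E : X.Modules}

theorem act_mul {A : Art k k} (D : Defo E A) (a b : A) :
    (D.act (a * b) : D.sheaf ⟶ D.sheaf) = (D.act b : D.sheaf ⟶ D.sheaf) ≫ (D.act a : D.sheaf ⟶ D.sheaf) := by
  rw [map_mul]; rfl

instance epi_π {A : Art k k} (D : Defo E A) : Epi D.π :=
  epi_of_surjective _ fun p => D.surj p

theorem act_ep_act_ep (D : Defo E (dual k k)) :
    (D.act (ep k) : D.sheaf ⟶ D.sheaf) ≫ (D.act (ep k) : D.sheaf ⟶ D.sheaf) = 0 := by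
  rw [← act_mul, ep_mul_ep, map_zero]

theorem act_ep_π (D : Defo E (dual k k)) :
    (D.act (ep k) : D.sheaf ⟶ D.sheaf) ≫ D.π = 0 :=
  D.act_π _ res_ep

/-- An element of the stalk killed by `π` is a multiple of `ε`. -/
theorem exists_ep_of_π (D : Defo E (dual k k)) (p : X) (v : ↑(D.sheaf.presheaf.stalk p))
    (hv : RefHull.stalkMapₗ D.π p v = 0) :
    ∃ w, v = RefHull.stalkMapₗ (D.act (ep k)) p w := by
  let mD : Module (dual k k) ↑(D.sheaf.presheaf.stalk p) := D.stalkMod p
  have h := D.ker_le p v hv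
  refine Submodule.smul_induction_on h ?_ ?_
  · intro a ha n _
    obtain ⟨c, hc⟩ := mem_maximalIdeal_dual a ha
    refine ⟨RefHull.stalkMapₗ (D.act (algebraMap k (dual k k) c)) p n, ?_⟩
    change RefHull.stalkMapₗ (D.act a) p n = _
    rw [← stalkMapₗ_comp_apply, ← act_mul, hc, mul_comm]
  · rintro x y ⟨w, rfl⟩ ⟨w', rfl⟩
    exact ⟨w + w', (map_add _ _ _).symm⟩

/-- Multiplication by `ε` factors through the reduction. -/
theorem exists_eps (D : Defo E (dual k k)) :
    ∃ ι : E ⟶ D.sheaf, D.π ≫ ι = D.act (ep k) := by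
  have h0 : kernel.ι D.π ≫ (D.act (ep k) : D.sheaf ⟶ D.sheaf) = 0 := by
    refine hom_ext_stalk _ _ fun p => ?_
    ext v
    change RefHull.stalkMapₗ _ p v = RefHull.stalkMapₗ 0 p v
    rw [stalkMapₗ_comp_apply, stalkMapₗ_zero_apply]
    obtain ⟨w, hw⟩ := exists_ep_of_π D p (RefHull.stalkMapₗ (kernel.ι D.π) p v) (by
      rw [← stalkMapₗ_comp_apply, kernel.condition, stalkMapₗ_zero_apply])
    rw [hw, ← stalkMapₗ_comp_apply, act_ep_act_ep, stalkMapₗ_zero_apply]
  let hc := Abelian.epiIsCokernelOfKernel _ (kernelIsKernel D.π)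
  exact ⟨hc.desc (CokernelCofork.ofπ _ h0), hc.fac (CokernelCofork.ofπ _ h0) WalkingParallelPair.one⟩

/-- The map `ι : E ⟶ D.sheaf` with `D.π ≫ ι = ε`. -/
noncomputable def eps (D : Defo E (dual k k)) : E ⟶ D.sheaf := (exists_eps D).choose

theorem π_eps (D : Defo E (dual k k)) : D.π ≫ eps D = D.act (ep k) :=
  (exists_eps D).choose_spec

theorem eps_unique (D : Defo E (dual k k)) (ι : E ⟶ D.sheaf)
    (h : D.π ≫ ι = D.act (ep k)) : ι = eps D := by
  rw [← cancel_epi D.π, h, π_eps]

theorem eps_π (D : Defo E (dual k k)) : eps D ≫ D.π = 0 := by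
  rw [← cancel_epi D.π, ← Category.assoc, π_eps, act_ep_π, comp_zero]

/-- `ε v = 0` in a flat module over the dual numbers forces `v ∈ ε M`. -/
theorem exists_of_ep_smul {M : Type u} [AddCommGroup M] [Module (dual k k : Art k k) M]
    [Module.Flat (dual k k : Art k k) M] (v : M) (hv : ep k • v = 0) :
    ∃ w : M, v = ep k • w := by
  obtain ⟨κ, a, y, h1, h2⟩ := (Module.Flat.isTrivialRelation_of_sum_smul_eq_zero (R := (dual k k : Art k k)) (M := M)
    (ι := PUnit.{1}) (f := fun _ => ep k) (x := fun _ => v) (by simpa using hv))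
  have h3 : ∀ j, ∃ c : k, a PUnit.unit j = algebraMap k (dual k k) c * ep k := by
    intro j
    have h4 := h2 j
    simp only [Finset.univ_unique, PUnit.default_eq_unit, Finset.sum_singleton] at h4
    obtain ⟨c, hc⟩ := eq_add (a PUnit.unit j)
    have h5 : (dual k k : Art k k).res (a PUnit.unit j) = 0 := by
      rw [hc, mul_add, mul_left_comm, ep_mul_ep, mul_zero, add_zero] at h4
      have h6 := congrArg (fun z : DualNumber k => TrivSqZeroExt.snd z)
        (show (DualNumber.eps : DualNumber k) * algebraMap k (DualNumber k) _ = 0 from h4)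
      simpa [TrivSqZeroExt.algebraMap_eq_inl] using h6
    exact ⟨c, by rw [hc, h5, map_zero, zero_add]⟩
  choose c hc using h3
  refine ⟨∑ j, algebraMap k (dual k k) (c j) • y j, ?_⟩
  have h7 : v = ∑ j, a PUnit.unit j • y j := h1 PUnit.unit
  rw [h7, Finset.smul_sum]
  refine Finset.sum_congr rfl fun j _ => ?_
  rw [hc j, smul_smul, mul_comm]

/-- A module over the dual numbers with `ker ε = im ε` is flat. -/
theorem flat_of_exact {M : Type u} [AddCommGroup M] [Module (dual k k : Art k k) M]
    (h : ∀ v : M, ep k • v = 0 → ∃ w : M, v = ep k • w) : Module.Flat (dual k k : Art k k) M := by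
  refine Groth.Agent.FlatA.LocalCriterion.flat_of_isNilpotent (IsLocalRing.maximalIdeal (dual k k))
    (isNilpotent_maximalIdeal _) ?_ ?_
  · rw [injective_iff_map_eq_zero]
    intro t ht
    have h1 : ∃ v : M, t = (⟨ep k, ep_mem⟩ : IsLocalRing.maximalIdeal (dual k k)) ⊗ₜ[(dual k k : Art k k)] v := by
      clear ht
      induction t using TensorProduct.induction_on with
      | zero => exact ⟨0, (TensorProduct.tmul_zero _ _).symm⟩
      | tmul a v =>
        obtain ⟨c, hc⟩ := mem_maximalIdeal_dual a.1 a.2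
        refine ⟨algebraMap k (dual k k) c • v, ?_⟩
        rw [TensorProduct.tmul_smul, TensorProduct.smul_tmul']
        congr 1
        exact Subtype.ext hc
      | add x y hx hy =>
        obtain ⟨v, rfl⟩ := hx
        obtain ⟨w, rfl⟩ := hy
        exact ⟨v + w, (TensorProduct.tmul_add _ _ _).symm⟩
    obtain ⟨v, rfl⟩ := h1
    have h2 : ep k • v = 0 := by
      have h3 := congrArg (TensorProduct.lid _ _) ht
      simpa using h3
    obtain ⟨w, rfl⟩ := h v h2
    rw [TensorProduct.tmul_smul, TensorProduct.smul_tmul']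
    have h4 : (ep k • (⟨ep k, ep_mem⟩ : IsLocalRing.maximalIdeal (dual k k : Art k k))) = 0 :=
      Subtype.ext ep_mul_ep
    rw [h4, TensorProduct.zero_tmul]
  · let _i : Field ((dual k k : Art k k) ⧸ IsLocalRing.maximalIdeal (dual k k : Art k k)) := Ideal.Quotient.field _
    infer_instance

/-- `ε v = 0` on the stalk forces `v ∈ ε · stalk`. -/
theorem exists_of_act_ep (D : Defo E (dual k k)) (p : X) (v : ↑(D.sheaf.presheaf.stalk p))
    (hv : RefHull.stalkMapₗ (D.act (ep k)) p v = 0) :
    ∃ w, v = RefHull.stalkMapₗ (D.act (ep k)) p w := by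
  let mD : Module (dual k k) ↑(D.sheaf.presheaf.stalk p) := D.stalkMod p
  have hf : Module.Flat (dual k k) ↑(D.sheaf.presheaf.stalk p) := D.flat p
  exact exists_of_ep_smul (k := k) v hv

theorem mono_eps' (D : Defo E (dual k k)) : Mono (eps D) := by
  refine mono_of_injective _ fun p => ?_
  rw [injective_iff_map_eq_zero]
  intro e he
  change RefHull.stalkMapₗ (eps D) p e = 0 at he
  obtain ⟨v, rfl⟩ := D.surj p e
  rw [← stalkMapₗ_comp_apply, π_eps] at he
  obtain ⟨w, rfl⟩ := exists_of_act_ep D p v he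
  rw [← stalkMapₗ_comp_apply, act_ep_π, stalkMapₗ_zero_apply]

instance mono_eps (D : Defo E (dual k k)) : Mono (eps D) := mono_eps' D

/-- The extension `0 → E → D.sheaf → E → 0` attached to a first-order deformation. -/
noncomputable abbrev sc (D : Defo E (dual k k)) : ShortComplex X.Modules :=
  ShortComplex.mk (eps D) D.π (eps_π D)

theorem shortExact (D : Defo E (dual k k)) : (sc D).ShortExact where
  exact := by
    refine exact_of_stalks _ fun p => ?_
    intro v
    constructor
    · intro hv
      obtain ⟨w, rfl⟩ := exists_ep_of_π D p v hv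
      refine ⟨RefHull.stalkMapₗ D.π p w, ?_⟩
      change RefHull.stalkMapₗ (eps D) p _ = _
      rw [← stalkMapₗ_comp_apply, π_eps]
    · rintro ⟨w, rfl⟩
      change RefHull.stalkMapₗ D.π p (RefHull.stalkMapₗ (eps D) p w) = 0
      rw [← stalkMapₗ_comp_apply, eps_π, stalkMapₗ_zero_apply]
  mono_f := mono_eps D
  epi_g := epi_π D

/-! ### The converse: an extension of `E` by `E` is a first-order deformation -/

section OfExt

variable {F : X.Modules} (i : E ⟶ F) (π : F ⟶ E) (w : i ≫ π = 0)

/-- The endomorphism `ε = π ≫ i` of the middle term. -/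
noncomputable def epEnd : End F := (π ≫ i : F ⟶ F)

include w in
theorem epEnd_mul_self : epEnd i π * epEnd i π = 0 := by
  rw [End.mul_def, epEnd, Category.assoc, reassoc_of% w, zero_comp, comp_zero]

variable (k) in
/-- The action of the dual numbers on the middle term of an extension of `E` by `E`. -/
noncomputable def extAct : DualNumber k →ₐ[k] End F :=
  DualNumber.lift ⟨(Algebra.ofId k (End F), epEnd i π),
    epEnd_mul_self i π w, fun a => (Algebra.commutes a (epEnd i π)).symm⟩

theorem extAct_ep : extAct k i π w (DualNumber.eps : DualNumber k) = epEnd i π := by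
  rw [extAct]
  exact DualNumber.lift_apply_eps _

theorem extAct_apply (z : DualNumber k) :
    (extAct k i π w z : F ⟶ F) = z.fst • 𝟙 F + z.snd • (π ≫ i) := by
  change algebraMap k (End F) z.fst + (algebraMap k (End F) z.snd) * epEnd i π = _
  rw [Algebra.algebraMap_eq_smul_one, Algebra.algebraMap_eq_smul_one, smul_mul_assoc, one_mul]
  rfl

theorem extAct_π (a : DualNumber k) (ha : a.fst = 0) : (extAct k i π w a : F ⟶ F) ≫ π = 0 := by
  rw [extAct_apply, ha, zero_smul, zero_add, Linear.smul_comp, Category.assoc, w, comp_zero, smul_zero]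

variable {i π w}

variable (k) in
/-- The first-order deformation attached to an extension `0 → E → F → E → 0`. -/
noncomputable def ofExt (hS : (ShortComplex.mk i π w).ShortExact) : Defo E (dual k k) where
  sheaf := F
  act := extAct k i π w
  π := π
  act_π a ha := extAct_π i π w a ha
  surj p := by
    have : Epi π := hS.epi_g
    exact stalkLin_surjective π p
  ker_le p v hv := by
    let _i : Module (dual k k) ↑(F.presheaf.stalk p) :=
      stalkModule (A := dual k k) F (extAct k i π w).toRingHom p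
    obtain ⟨w', hw'⟩ := (stalkLin_exact _ hS.exact p v).1 hv
    have : Epi π := hS.epi_g
    obtain ⟨x, rfl⟩ := stalkLin_surjective π p w'
    have hv' : v = ep k • x := by
      change v = RefHull.stalkMapₗ (extAct k i π w (DualNumber.eps : DualNumber k) : F ⟶ F) p x
      rw [extAct_ep, epEnd, stalkMapₗ_comp_apply]
      exact hw'.symm
    rw [hv']
    exact Submodule.smul_mem_smul ep_mem Submodule.mem_top
  flat p := by
    let _i : Module (dual k k) ↑(F.presheaf.stalk p) :=
      stalkModule (A := dual k k) F (extAct k i π w).toRingHom p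
    refine flat_of_exact (k := k) fun v hv => ?_
    have hx : ∀ x, ep k • x = RefHull.stalkMapₗ i p (RefHull.stalkMapₗ π p x) := by
      intro x
      change RefHull.stalkMapₗ (extAct k i π w (DualNumber.eps : DualNumber k) : F ⟶ F) p x = _
      rw [extAct_ep, epEnd, stalkMapₗ_comp_apply]
    have : Mono i := hS.mono_f
    have : Epi π := hS.epi_g
    rw [hx] at hv
    have h1 : RefHull.stalkMapₗ π p v = 0 :=
      (injective_iff_map_eq_zero _).1 (stalkLin_injective i p) _ hv
    obtain ⟨w', hw'⟩ := (stalkLin_exact _ hS.exact p v).1 h1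
    obtain ⟨x, rfl⟩ := stalkLin_surjective π p w'
    exact ⟨x, by rw [hx]; exact hw'.symm⟩

theorem ofExt_act_ep (hS : (ShortComplex.mk i π w).ShortExact) :
    ((ofExt k hS).act (ep k) : F ⟶ F) = π ≫ i :=
  extAct_ep i π w

theorem eps_ofExt (hS : (ShortComplex.mk i π w).ShortExact) : eps (ofExt k hS) = i :=
  (eps_unique (ofExt k hS) i (ofExt_act_ep hS).symm).symm

end OfExt

/-! ### Morphisms of first-order deformations -/

theorem act_eq_smul (D : Defo E (dual k k)) (c : k) :
    (D.act (algebraMap k (dual k k) c) : D.sheaf ⟶ D.sheaf) = c • 𝟙 D.sheaf := by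
  rw [D.act_algebraMap, KLin.smul_id]

theorem comm_of_ep {D D' : Defo E (dual k k)} (φ : D.sheaf ⟶ D'.sheaf)
    (h : D.act (ep k) ≫ φ = φ ≫ D'.act (ep k)) (a : (dual k k : Art k k)) :
    D.act a ≫ φ = φ ≫ D'.act a := by
  obtain ⟨c, hc⟩ := eq_add a
  rw [hc, map_add, map_add]
  rw [Preadditive.add_comp, Preadditive.comp_add, act_mul, act_mul, act_eq_smul, act_eq_smul, act_eq_smul, act_eq_smul]
  rw [Linear.smul_comp, Linear.comp_smul, Category.id_comp, Category.comp_id, Linear.comp_smul, Category.comp_id,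
    Linear.smul_comp, Linear.comp_smul, Category.comp_id, Linear.comp_smul, h]

theorem eps_comp {D D' : Defo E (dual k k)} (φ : D.sheaf ⟶ D'.sheaf)
    (h : D.act (ep k) ≫ φ = φ ≫ D'.act (ep k)) (hπ : φ ≫ D'.π = D.π) : eps D ≫ φ = eps D' := by
  rw [← cancel_epi D.π, ← Category.assoc, π_eps, h, ← π_eps, ← Category.assoc, hπ]

theorem ep_comm {D D' : Defo E (dual k k)} (φ : D.sheaf ⟶ D'.sheaf)
    (h : eps D ≫ φ = eps D') (hπ : φ ≫ D'.π = D.π) : D.act (ep k) ≫ φ = φ ≫ D'.act (ep k) := by
  rw [← π_eps, ← π_eps, Category.assoc, h, ← Category.assoc, hπ]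

/-- A morphism of extensions inducing the identity of both ends is an isomorphism of deformations. -/
theorem isIso_of_eps {D D' : Defo E (dual k k)} (φ : D.sheaf ⟶ D'.sheaf)
    (h : eps D ≫ φ = eps D') (hπ : φ ≫ D'.π = D.π) : IsIso φ := by
  let τ : sc D ⟶ sc D' :=
    { τ₁ := 𝟙 E
      τ₂ := φ
      τ₃ := 𝟙 E
      comm₁₂ := (Category.id_comp _).trans h.symm
      comm₂₃ := hπ.trans (Category.comp_id _).symm }
  have h1 : IsIso τ.τ₁ := inferInstanceAs (IsIso (𝟙 E))
  have h3 : IsIso τ.τ₃ := inferInstanceAs (IsIso (𝟙 E))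
  exact ShortComplex.isIso₂_of_shortExact_of_isIso₁₃ τ (shortExact D) (shortExact D')

/-- The isomorphism of deformations defined by a morphism of extensions. -/
noncomputable def isoOfEps {D D' : Defo E (dual k k)} (φ : D.sheaf ⟶ D'.sheaf)
    (h : eps D ≫ φ = eps D') (hπ : φ ≫ D'.π = D.π) : Defo.Iso D D' :=
  haveI := isIso_of_eps φ h hπ
  ⟨asIso φ, comm_of_ep φ (ep_comm φ h hπ), hπ⟩

theorem cl_eq_iff (D D' : Defo E (dual k k)) :
    D.cl = D'.cl ↔ ∃ φ : D.sheaf ⟶ D'.sheaf, eps D ≫ φ = eps D' ∧ φ ≫ D'.π = D.π := by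
  constructor
  · intro h
    obtain ⟨e⟩ := Quotient.exact h
    exact ⟨e.iso.hom, eps_comp _ (e.act_hom _) e.hom_π, e.hom_π⟩
  · rintro ⟨φ, h, hπ⟩
    exact Quotient.sound ⟨isoOfEps φ h hπ⟩

theorem eps_trivDual : eps (Defo.trivDual k E) = biprod.inr :=
  (eps_unique (Defo.trivDual k E) biprod.inr (dualAct_eps (k := k) E).symm).symm

end K927.DefoSh
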