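import Groth.Agent.CohtopA.CechOpens

/-!
# Čech `H¹` is `H¹` as soon as `H¹` vanishes on the members of the cover
-/

set_option autoImplicit false
universe u

open CategoryTheory CategoryTheory.Limits Opposite AlgebraicTopology Simplicial Abelian TopologicalSpace

namespace K927.CechOne

open Groth.Agent.CohtopA CechInj CechLES FreeAb CechCompare CechOpens

variable {X : TopCat.{u}} {ι : Type u} (U : ι → Opens X)

/-- The sections of `Q` which lift to `I` on the opens contained in a member of the cover. -/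
def liftSub {I Q : CohTop.Ab X} (q : I ⟶ Q) (W : Opens X) : AddSubgroup (Sec.Γs Q W) where
  carrier := {s | ∀ (i : ι) (V : Opens X) (h : V ≤ W) (_ : V ≤ U i), ∃ t : Sec.Γs I V, Sec.m q V t = Sec.r Q h s}
  add_mem' := by
    intro a b ha hb i V h hi
    obtain ⟨t, ht⟩ := ha i V h hi
    obtain ⟨t', ht'⟩ := hb i V h hi
    exact ⟨t + t', by rw [map_add, map_add, ht, ht']⟩
  zero_mem' := fun i V h hi => ⟨0, by rw [map_zero, map_zero]⟩
  neg_mem' := by
    intro a ha i V h hi
    obtain ⟨t, ht⟩ := ha i V h hi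
    exact ⟨-t, by rw [map_neg, map_neg, ht]⟩

theorem res_mem {I Q : CohTop.Ab X} (q : I ⟶ Q) {W W' : Opens X} (h : W' ≤ W) (s : Sec.Γs Q W)
    (hs : s ∈ liftSub U q W) : Sec.r Q h s ∈ liftSub U q W' := by
  intro i V h' hi
  obtain ⟨t, ht⟩ := hs i V (h'.trans h) hi
  exact ⟨t, by rw [ht, Sec.r_r]⟩

/-- The presheaf of sections of `Q` which lift to `I` locally on the cover. -/
noncomputable def liftPsh {I Q : CohTop.Ab X} (q : I ⟶ Q) : (Opens X)ᵒᵖ ⥤ AddCommGrpCat.{u} where
  obj W := AddCommGrpCat.of (liftSub U q W.unop)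
  map {W W'} f := AddCommGrpCat.ofHom
    { toFun := fun s => ⟨Sec.r Q f.unop.le s.1, res_mem U q f.unop.le s.1 s.2⟩
      map_zero' := Subtype.ext (map_zero _)
      map_add' := fun a b => Subtype.ext (map_add _ _ _) }
  map_id W := by
    refine ConcreteCategory.hom_ext _ _ fun s => ?_
    exact Subtype.ext (Sec.r_self _ _)
  map_comp {W W' W''} f g := by
    refine ConcreteCategory.hom_ext _ _ fun s => ?_
    exact Subtype.ext (Sec.r_r (F := Q) f.unop.le g.unop.le s.1).symm

theorem im_mem {I Q : CohTop.Ab X} (q : I ⟶ Q) (W : Opens X) (t : Sec.Γs I W) :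
    Sec.m q W t ∈ liftSub U q W := fun _ _ h _ => ⟨Sec.r I h t, Sec.m_r q h t⟩

/-- The projection to `liftPsh`. -/
noncomputable def toLift {I Q : CohTop.Ab X} (q : I ⟶ Q) : I.obj ⟶ liftPsh U q where
  app W := AddCommGrpCat.ofHom
    { toFun := fun t => (⟨Sec.m q W.unop t, im_mem U q W.unop t⟩ : liftSub U q W.unop)
      map_zero' := Subtype.ext (map_zero _)
      map_add' := fun a b => Subtype.ext (map_add _ _ _) }
  naturality {W W'} f := by
    ext t
    exact Subtype.ext (Sec.m_r q f.unop.le t)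

/-- The inclusion of `liftPsh`. -/
noncomputable def ofLift {I Q : CohTop.Ab X} (q : I ⟶ Q) : liftPsh U q ⟶ Q.obj where
  app W := AddCommGrpCat.ofHom (liftSub U q W.unop).subtype
  naturality {W W'} f := by
    ext t
    rfl

theorem toLift_ofLift {I Q : CohTop.Ab X} (q : I ⟶ Q) : toLift U q ≫ ofLift U q = q.hom := rfl

theorem augExact_lift {I Q : CohTop.Ab X} (q : I ⟶ Q) : AugExact (aug U) (liftPsh U q) where
  inj x y hxy := by
    have h1 := congrArg (evHom (ofLift U q) (EU U _⦋0⦌)) hxy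
    rw [augMap_naturality, augMap_naturality] at h1
    exact Subtype.ext ((augExact U Q).inj h1)
  mem x := by
    rw [dEv_zero_apply, sub_eq_zero]
    apply ev_ext
    intro k
    refine (cp_evMap_δ U _ 0 _ k).trans (Eq.trans ?_ (cp_evMap_δ U _ 1 _ k).symm)
    rw [augMap_cp, augMap_cp, rP_rP, rP_rP]
  lift x hx := by
    have h0 := (cxMap (EU U) (ofLift U q)).comm 0 1
    rw [cxMap_f, cxMap_f] at h0
    have h1 : dEv Q.obj (EU U) 0 (evHom (ofLift U q) (EU U _⦋0⦌) x) = 0 := by
      have h2 := ConcreteCategory.congr_hom h0 x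
      have h3 : dEv Q.obj (EU U) 0 (evHom (ofLift U q) (EU U _⦋0⦌) x) =
          evHom (ofLift U q) (EU U _⦋1⦌) (dEv (liftPsh U q) (EU U) 0 x) := by
        rw [← cochain_d, ← cochain_d]
        exact h2
      rw [h3, hx, map_zero]
    obtain ⟨y, hy⟩ := (augExact U Q).lift _ h1
    have h3 : ∀ k : Fin 1 → ι, Sec.r Q ((UU_le U k 0).trans (le_iSup U (k 0))) y =
        (cp U (liftPsh U q) k x).1 := by
      intro k
      have h3 := congrArg (cp U Q.obj k) hy
      rw [augMap_cp] at h3
      refine h3.trans ?_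
      exact comp_evHom (ofLift U q) (EU U _⦋0⦌) x k
    refine ⟨⟨y, fun i V hV hi => ?_⟩, ?_⟩
    · have h4 : V ≤ UU U (fun _ : Fin 1 => i) := by
        rw [UU_eq]
        exact le_iInf fun _ => hi
      obtain ⟨t, ht⟩ := (cp U (liftPsh U q) (fun _ : Fin 1 => i) x).2 i V h4 hi
      refine ⟨t, ?_⟩
      rw [ht, ← h3, Sec.r_r]
    · apply ev_ext
      intro k
      refine (augMap_cp U _ _ k).trans ?_
      exact Subtype.ext (h3 k)

theorem inj_of_shortExact {S : ShortComplex (CohTop.Ab X)} (hS : S.ShortExact) (W : Opens X) :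
    Function.Injective (Sec.m S.f W) := by
  intro x y hxy
  obtain ⟨f, rfl⟩ := (homEv_bijective W S.X₁).2 x
  obtain ⟨g, rfl⟩ := (homEv_bijective W S.X₁).2 y
  have := hS.mono_f
  congr 1
  rw [← cancel_mono S.f]
  exact (homEv_bijective W S.X₂).1 hxy

theorem exact_of_shortExact {S : ShortComplex (CohTop.Ab X)} (hS : S.ShortExact) (W : Opens X)
    (x : Sec.Γs S.X₂ W) (hx : Sec.m S.g W x = 0) : ∃ y, Sec.m S.f W y = x := by
  obtain ⟨f, rfl⟩ := (homEv_bijective W S.X₂).2 x
  have h1 : f ≫ S.g = 0 := by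
    apply (homEv_bijective W S.X₃).1
    rw [homEv_comp, map_zero]
    exact hx
  have := hS.mono_f
  refine ⟨homEv W S.X₁ (hS.exact.lift f h1), ?_⟩
  have h2 : hS.exact.lift f h1 ≫ S.f = f := hS.exact.lift_f f h1
  have h3 := homEv_comp (hS.exact.lift f h1) S.f
  rw [h2] at h3
  exact h3.symm

/-- The short complex `F → I → liftPsh`. -/
noncomputable def liftSC (S : ShortComplex (CohTop.Ab X)) :
    ShortComplex ((Opens X)ᵒᵖ ⥤ AddCommGrpCat.{u}) :=
  ShortComplex.mk S.f.hom (toLift U S.g) (by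
    ext W s
    refine Subtype.ext ?_
    have h1 : Sec.m (S.f ≫ S.g) W.unop s = 0 := by rw [S.zero]; rfl
    exact h1)

theorem liftSC_shortExact {S : ShortComplex (CohTop.Ab X)} (hS : S.ShortExact) (W : Opens X) (i : ι)
    (hW : W ≤ U i) : ((liftSC U S).map ((evaluation _ _).obj (op W))).ShortExact where
  exact := by
    rw [ShortComplex.ab_exact_iff]
    intro x hx
    exact exact_of_shortExact hS W x (congrArg Subtype.val hx)
  mono_f := by
    rw [AddCommGrpCat.mono_iff_injective]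
    exact inj_of_shortExact hS W
  epi_g := by
    rw [AddCommGrpCat.epi_iff_surjective]
    intro x
    obtain ⟨t, ht⟩ := x.2 i W le_rfl hW
    rw [Sec.r_self] at ht
    exact ⟨t, Subtype.ext ht⟩

/-- Čech `H¹` is `H¹` when `H¹` vanishes on the members of the cover. -/
theorem cech_one (F : CohTop.Ab X) (h : ∀ i, Subsingleton (CohTop.HU F 1 (U i))) :
    Nonempty (CohTop.cechH F.obj U 1 ≃+ CohTop.HU F 1 (iSup U)) := by
  obtain ⟨I, Q, i, q, w, hI, hS⟩ := DimShift.exists_shortExact_injective F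
  have hC : (cechSC (EU U) (liftSC U (ShortComplex.mk i q w))).ShortExact :=
    cechSC_shortExact (EU U) _ fun n a => liftSC_shortExact U hS _ (a 0) (UU_le U a 0)
  have hall : ∀ s : Sec.Γs Q (iSup U), s ∈ liftSub U q (iSup U) := by
    intro s k V hV hk
    have h1 := (AddCommGrpCat.epi_iff_surjective _).1 (eval_shortExact hS (U k) (fun x => by
      have := h k
      exact Subsingleton.elim (α := CohTop.HU F 1 (U k)) x 0)).epi_g (Sec.r Q (le_iSup U k) s)
    have h2 : ∃ t : Sec.Γs I (U k), Sec.m q (U k) t = Sec.r Q (le_iSup U k) s := h1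
    obtain ⟨t, ht⟩ := h2
    refine ⟨Sec.r I hk t, ?_⟩
    rw [Sec.m_r, ht, Sec.r_r]
  have hb : Function.Surjective ((ofLift U q).app (op (iSup U))).hom := fun s => ⟨⟨s, hall s⟩, rfl⟩
  refine nonempty_addEquiv_of_ker (conn hC (augExact_lift U q)).hom
    ((dconn (iSup U) hS).comp ((ofLift U q).app (op (iSup U))).hom)
    (conn_surjective hC (augExact_lift U q) (isZero_cech_of_injective_sheaf I U 0))
    ((dconn_surjective (iSup U) hS (fun x => Ext.eq_zero_of_injective (n := 0) x)).comp hb) (fun x => ?_)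
  refine (conn_eq_zero_iff hC (augExact U I) (augExact_lift U q) x).trans
    (Iff.trans ?_ (dconn_eq_zero_iff (iSup U) hS _).symm)
  constructor
  · rintro ⟨y, hy⟩
    exact ⟨y, congrArg Subtype.val hy⟩
  · rintro ⟨y, hy⟩
    exact ⟨y, Subtype.ext hy⟩

end K927.CechOne
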