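import Groth.Agent.DefoSh.K927.ExtCl
import Groth.Agent.DefoSh.K927.CechOne
import Groth.Agent.VBCurve.K705.ExtH1
import Groth.Agent.SDiv.K476.HomSh6
import Groth.Agent.Dcoh.MonClosed
import Groth.Agent.CurvesA.HHMap
import Groth.Agent.Desc.FinLocFreeSections
import Groth.Agent.S0007
import Groth.Agent.S0463
import Groth.Agent.CohqA.HTop

/-!
# First-order deformations of a vector bundle and Čech cohomology of `End(E)`
-/

set_option autoImplicit false
universe w u

open CategoryTheory CategoryTheory.Limits CategoryTheory.Abelian AlgebraicGeometry TopologicalSpace Opposite DefoSh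
open MonoidalCategory

namespace K927.CechDefo

open scoped Groth.Agent.Dcoh.MonCat
open Groth.Agent.Dcoh

variable {X : Scheme.{u}}

/-- The sheaf Hom out of a dualizable module is a tensor product. -/
noncomputable def homTens (A A' B : X.Modules) [ExactPairing A A'] :
    RefHull.homSh A B ≅ CohB1.tensorMod B A' :=
  K476.HomSh6.cmpIso A B ≪≫
    (Adjunction.rightAdjointUniq (MonClosed.tensorRightHomAdj A) (tensorRightAdjunction A A')).app B

/-- Čech `H¹` of a quasi-coherent module for a cover by affine opens, the intersections being arbitrary. -/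
theorem cech_one {ι : Type u} (U : ι → X.Opens) (hU : ∀ i, IsAffineOpen (U i)) (hcov : ⨆ i, U i = ⊤)
    (M : X.Modules) (hM : Coh.IsQCoh M) : Nonempty (↑(CohB1.cechH U M 1) ≃+ Coh.HH X M 1) := by
  obtain ⟨e⟩ := K927.CechOne.cech_one (X := X.toTopCat) U (Coh.toAb M) (by
    intro i
    obtain ⟨e⟩ := Groth.Agent.S0463.result (X := X.toTopCat) (Coh.toAb M) (U i) 1
    have hV' : IsAffine (U i) := hU i
    have := Groth.Agent.S0007.result ((U i : X.Opens) : Scheme.{u}) (M.restrict (U i).ι) 1 Nat.one_pos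
    exact Equiv.subsingleton (β := Coh.HHon X M (U i) 1) e.toEquiv)
  rw [hcov] at e
  exact ⟨e.trans (Groth.Agent.CohqA.HTop.equivH CategoryTheory.Limits.isTerminalTop _ 1)⟩

theorem nonempty_ext_equiv [HasExt.{w} X.Modules] (E F : X.Modules) (hE : FlatMod.IsFinLocFree E) :
    Nonempty (Ext E F 1 ≃+ Coh.HH X (RefHull.homSh E F) 1) := by
  obtain ⟨E', ⟨_⟩⟩ := DualFLF.exists_exactPairing hE
  obtain ⟨e⟩ := K705.ExtH1.nonempty_ext_equiv E E' F
  exact ⟨e.trans (Groth.Agent.CurvesA.HHMap.equiv (homTens E E' F).symm 1).toAddEquiv⟩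

theorem isFinLocFree_of_cover {ι : Type*} (U : ι → X.Opens) (hcov : ⨆ i, U i = ⊤) (E : X.Modules) (n : ℕ)
    (hfree : ∀ i, Nonempty (E.restrict (U i).ι ≅ FlatMod.freeMod ↑(U i) n)) : FlatMod.IsFinLocFree E := by
  intro x
  have hx : x ∈ ⨆ i, U i := by rw [hcov]; trivial
  obtain ⟨i, hi⟩ := Opens.mem_iSup.1 hx
  exact ⟨U i, n, hi, hfree i⟩

theorem main (k : Type u) [Field k] (X : Scheme.{u}) [X.Over (Spec (CommRingCat.of k))] {ι : Type u}
    (U : ι → X.Opens) (hU : ∀ i, IsAffineOpen (U i)) (hcov : ⨆ i, U i = ⊤) (E : X.Modules) (n : ℕ)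
    (hfree : ∀ i, Nonempty (E.restrict (U i).ι ≅ FlatMod.freeMod ↑(U i) n)) :
    ∃ e : DefoSh.FirstOrder k E ≃ ↑(CohB1.cechH U (RefHull.homSh E E) 1),
      e (DefoSh.Defo.trivDual k E).cl = 0 := by
  have := HasExt.standard X.Modules
  have hE := isFinLocFree_of_cover U hcov E n hfree
  have hfp := Groth.Agent.Desc.FinLocFreeSections.isFP_of_isFinLocFree hE
  have hq : Coh.IsQCoh (RefHull.homSh E E) :=
    K476.HomSh3.isQCoh_homSh hfp (Groth.Agent.PerfC.FPSections.isQCoh_of_isFP hfp)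
  obtain ⟨e₁⟩ := nonempty_ext_equiv E E hE
  obtain ⟨e₂⟩ := cech_one U hU hcov _ hq
  refine ⟨(K927.DefoSh.extEquiv k E).trans (e₁.trans e₂.symm).toEquiv, ?_⟩
  change (e₁.trans e₂.symm) (K927.DefoSh.extEquiv k E (DefoSh.Defo.trivDual k E).cl) = 0
  rw [K927.DefoSh.extEquiv_trivDual, map_zero]

end K927.CechDefo
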