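import Groth.Prelude.Def_DefoConn
import Groth.Agent.DefoSh.K927.Base
import Groth.Agent.Dcoh.FlatSES
import Groth.Agent.Dcoh.Spread
import Groth.Agent.Ega2.Tens

/-!
# Connections as morphisms of abelian sheaves

Horizontality and the Leibniz rule at the level of morphisms; differences of connections are linear.
-/

set_option autoImplicit false
universe u

open CategoryTheory CategoryTheory.Limits AlgebraicGeometry TopologicalSpace Opposite DefoSh
open ArtFun ArtFun.Art

namespace K927.DefoSh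

variable {X : Scheme.{u}}

/-- The underlying abelian sheaf of a module, as a functor. -/
noncomputable abbrev ab (X : Scheme.{u}) : X.Modules ⥤ Sheaf (Opens.grothendieckTopology X) AddCommGrpCat.{u} :=
  SheafOfModules.toSheaf X.ringCatSheaf

theorem ab_additive (X : Scheme.{u}) : (ab X).Additive where

theorem ab_faithful (X : Scheme.{u}) : (ab X).Faithful :=
  inferInstanceAs (SheafOfModules.toSheaf.{u} X.ringCatSheaf).Faithful

theorem ab_preservesFiniteColimits (X : Scheme.{u}) : PreservesFiniteColimits (ab X) :=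
  Groth.Agent.CycB.StalkExact.toSheaf_preservesFiniteColimits X

attribute [local instance] ab_additive ab_faithful ab_preservesFiniteColimits

theorem epi_ab {M N : X.Modules} (φ : M ⟶ N) [Epi φ] : Epi ((ab X).map φ) := inferInstance

variable {M N P Ω' : X.Modules}

theorem secApp_ab (φ : M ⟶ N) (U : X.Opens) (m : M.val.obj (op U)) :
    ConnSh.secApp ((ab X).map φ) U m = φ.app U m := rfl

theorem secApp_comp (φ : Coh.toAb M ⟶ Coh.toAb N) (ψ : Coh.toAb N ⟶ Coh.toAb P) (U : X.Opens)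
    (m : M.val.obj (op U)) : ConnSh.secApp (φ ≫ ψ) U m = ConnSh.secApp ψ U (ConnSh.secApp φ U m) := rfl

theorem secApp_add (φ ψ : Coh.toAb M ⟶ Coh.toAb N) (U : X.Opens)
    (m : M.val.obj (op U)) : ConnSh.secApp (φ + ψ) U m = ConnSh.secApp φ U m + ConnSh.secApp ψ U m := rfl

theorem secApp_sub (φ ψ : Coh.toAb M ⟶ Coh.toAb N) (U : X.Opens)
    (m : M.val.obj (op U)) : ConnSh.secApp (φ - ψ) U m = ConnSh.secApp φ U m - ConnSh.secApp ψ U m := rfl

theorem ab_hom_ext {φ ψ : Coh.toAb M ⟶ Coh.toAb N}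
    (h : ∀ (U : X.Opens) (m : M.val.obj (op U)), ConnSh.secApp φ U m = ConnSh.secApp ψ U m) : φ = ψ := by
  ext U m
  exact h U.unop m

theorem isHorizontal_iff {n : Coh.toAb M ⟶ Coh.toAb (CohB1.tensorMod M Ω')}
    {n' : Coh.toAb N ⟶ Coh.toAb (CohB1.tensorMod N Ω')} {φ : M ⟶ N} :
    ConnSh.IsHorizontal n n' φ ↔ n ≫ (ab X).map (KoszTw.tensorMap φ (𝟙 Ω')) = (ab X).map φ ≫ n' := by
  constructor
  · intro h
    exact ab_hom_ext fun U m => (h U m).symm
  · intro h U m
    exact (congrArg (fun ψ => ConnSh.secApp ψ U m) h).symm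

/-- A linear morphism of the underlying abelian sheaves is a morphism of modules. -/
theorem exists_of_linear (ψ : Coh.toAb M ⟶ Coh.toAb N)
    (h : ∀ (U : X.Opens) (t : Γ(X, U)) (m : M.val.obj (op U)),
      ConnSh.secApp ψ U (t • m) = t • ConnSh.secApp ψ U m) : ∃ β : M ⟶ N, (ab X).map β = ψ :=
  ⟨⟨PresheafOfModules.homMk ψ.hom fun U r m => h U.unop r m⟩, rfl⟩

/-- The difference of two connections is linear. -/
theorem exists_sub {S : Scheme.{u}} {f : X ⟶ S} {δ : OmegaSh.Der f Ω'}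
    {n n' : Coh.toAb M ⟶ Coh.toAb (CohB1.tensorMod M Ω')}
    (hn : ConnSh.IsConn δ M n) (hn' : ConnSh.IsConn δ M n') :
    ∃ β : M ⟶ CohB1.tensorMod M Ω', (ab X).map β = n' - n := by
  refine exists_of_linear _ fun U t m => ?_
  rw [secApp_sub, secApp_sub, hn, hn']
  rw [smul_sub]
  abel

/-- Adding a linear map to a connection gives a connection. -/
theorem isConn_add {S : Scheme.{u}} {f : X ⟶ S} {δ : OmegaSh.Der f Ω'}
    {n : Coh.toAb M ⟶ Coh.toAb (CohB1.tensorMod M Ω')} (hn : ConnSh.IsConn δ M n)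
    (β : M ⟶ CohB1.tensorMod M Ω') : ConnSh.IsConn δ M (n + (ab X).map β) := by
  intro U t m
  have h : ConnSh.secApp ((ab X).map β) U (t • m) = t • ConnSh.secApp ((ab X).map β) U m := β.app_smul t m
  rw [secApp_add, secApp_add, hn, h, smul_add]
  abel

theorem tmul_eq (U : X.Opens) (m : Γ(M, U)) (n : Γ(N, U)) :
    SecTwist.tmul M N U m n = Groth.Agent.Ega2.Tens.tmul m n := rfl

/-- `f ⊗ Ω'`. -/
noncomputable abbrev tm (Ω' : X.Modules) (f : M ⟶ N) : CohB1.tensorMod M Ω' ⟶ CohB1.tensorMod N Ω' :=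
  KoszTw.tensorMap f (𝟙 Ω')

theorem tm_comp (f : M ⟶ N) (g : N ⟶ P) : tm Ω' (f ≫ g) = tm Ω' f ≫ tm Ω' g := by
  rw [← KoszTw.tensorMap_comp, Category.comp_id]

theorem tm_id : tm Ω' (𝟙 M) = 𝟙 _ := KoszTw.tensorMap_id M Ω'

theorem tm_add (f g : M ⟶ N) : tm Ω' (f + g) = tm Ω' f + tm Ω' g := by
  refine Groth.Agent.Ega2.Tens.hom_ext _ _ fun U m n => ?_
  rw [Scheme.Modules.Hom.add_app]
  change _ = (tm Ω' f).app U (Groth.Agent.Ega2.Tens.tmul m n) + (tm Ω' g).app U (Groth.Agent.Ega2.Tens.tmul m n)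
  rw [← tmul_eq, KoszTw.tensorMap_tmul, KoszTw.tensorMap_tmul, KoszTw.tensorMap_tmul, tmul_eq, tmul_eq, tmul_eq,
    ← Groth.Agent.Ega2.Tens.add_tmul]
  rfl

theorem tm_zero : tm Ω' (0 : M ⟶ N) = 0 := by
  have h := tm_add (Ω' := Ω') (0 : M ⟶ N) 0
  rw [add_zero] at h
  exact left_eq_add.1 h

theorem tm_sub (f g : M ⟶ N) : tm Ω' (f - g) = tm Ω' f - tm Ω' g := by
  rw [eq_sub_iff_add_eq, ← tm_add, sub_add_cancel]

theorem tm_smul {k : Type u} [CommRing k] [X.Over (Spec (CommRingCat.of k))] (c : k) (f : M ⟶ N) :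
    tm Ω' (c • f) = c • tm Ω' f := by
  refine Groth.Agent.Ega2.Tens.hom_ext _ _ fun U m n => ?_
  rw [KLin.smul_app_apply, ← tmul_eq, KoszTw.tensorMap_tmul, KoszTw.tensorMap_tmul, KLin.smul_app_apply,
    tmul_eq, tmul_eq, Groth.Agent.Ega2.Tens.smul_tmul]

/-! ### Deformations of a connection over a first-order deformation -/

section Defo

variable {k : Type u} [Field k] [X.Over (Spec (CommRingCat.of k))]
  {δ : OmegaSh.Der (X ↘ Spec (CommRingCat.of k)) Ω'} {E : X.Modules}
  {nabla : Coh.toAb E ⟶ Coh.toAb (CohB1.tensorMod E Ω')}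

theorem DefoConn_ext {A : Art k k} {D : Defo E A} {c c' : DefoConn δ nabla D} (h : c.conn = c'.conn) : c = c' := by
  cases c; cases c'; cases h; rfl

theorem conn_tm_π {A : Art k k} {D : Defo E A} (c : DefoConn δ nabla D) :
    c.conn ≫ (ab X).map (tm Ω' D.π) = (ab X).map D.π ≫ nabla :=
  isHorizontal_iff.1 c.π_horizontal

theorem conn_tm_act {A : Art k k} {D : Defo E A} (c : DefoConn δ nabla D) (a : A) :
    c.conn ≫ (ab X).map (tm Ω' (D.act a : D.sheaf ⟶ D.sheaf)) = (ab X).map (D.act a : D.sheaf ⟶ D.sheaf) ≫ c.conn :=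
  isHorizontal_iff.1 (c.act_horizontal a)

/-- `∇` and the deformed connection agree through `ε : E ⟶ D.sheaf`. -/
theorem eps_conn {D : Defo E (dual k k)} (c : DefoConn δ nabla D) :
    nabla ≫ (ab X).map (tm Ω' (eps D)) = (ab X).map (eps D) ≫ c.conn := by
  have h := conn_tm_act c (ep k)
  rw [← π_eps, tm_comp, Functor.map_comp, Functor.map_comp, ← Category.assoc, conn_tm_π, Category.assoc,
    Category.assoc] at h
  have := epi_ab D.π
  exact (cancel_epi _).1 h

theorem act_eq' (a : (dual k k : Art k k)) :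
    ∃ c c' : k, ∀ D : Defo E (dual k k),
      (D.act a : D.sheaf ⟶ D.sheaf) = c • 𝟙 D.sheaf + c' • (D.π ≫ eps D) := by
  obtain ⟨c, hc⟩ := eq_add a
  refine ⟨(dual k k : Art k k).res a, c, fun D' => ?_⟩
  have h1 : (D'.act a : End D'.sheaf) = D'.act (algebraMap k (dual k k) ((dual k k : Art k k).res a)) +
      D'.act (algebraMap k (dual k k) c * ep k) := by
    rw [← map_add, ← hc]
  refine h1.trans ?_
  rw [act_mul, act_eq_smul, act_eq_smul, Linear.comp_smul, Category.comp_id, ← π_eps]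

/-- Adding `π ≫ φ ≫ (ε ⊗ 1)` to a deformation of `∇` gives another one. -/
noncomputable def addConn {D : Defo E (dual k k)} (c : DefoConn δ nabla D) (φ : E ⟶ CohB1.tensorMod E Ω') :
    DefoConn δ nabla D where
  conn := c.conn + (ab X).map (D.π ≫ φ ≫ tm Ω' (eps D))
  isConn := isConn_add c.isConn _
  act_horizontal a := by
    rw [isHorizontal_iff]
    change _ ≫ (ab X).map (tm Ω' _) = _
    rw [Preadditive.add_comp, Preadditive.comp_add, conn_tm_act, ← Functor.map_comp, ← Functor.map_comp]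
    congr 2
    obtain ⟨x, y, h⟩ := act_eq' (E := E) a
    rw [h D, tm_add, tm_smul, tm_smul, tm_id, tm_comp, Preadditive.comp_add, Preadditive.add_comp,
      Linear.comp_smul, Linear.comp_smul, Linear.smul_comp, Linear.smul_comp, Category.comp_id, Category.id_comp]
    have h1 : (D.π ≫ φ ≫ tm Ω' (eps D)) ≫ tm Ω' D.π ≫ tm Ω' (eps D) = 0 := by
      rw [Category.assoc, Category.assoc, ← Category.assoc (tm Ω' (eps D)), ← tm_comp, eps_π, tm_zero, zero_comp,
        comp_zero, comp_zero]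
    have h2 : (D.π ≫ eps D) ≫ D.π ≫ φ ≫ tm Ω' (eps D) = 0 := by
      rw [Category.assoc, ← Category.assoc (eps D), eps_π, zero_comp, comp_zero]
    rw [h1, h2]
  π_horizontal := by
    rw [isHorizontal_iff]
    change _ ≫ (ab X).map (tm Ω' _) = _
    rw [Preadditive.add_comp, conn_tm_π, ← Functor.map_comp, Category.assoc, Category.assoc, ← tm_comp, eps_π,
      tm_zero, comp_zero, comp_zero, Functor.map_zero, add_zero]

theorem addConn_conn {D : Defo E (dual k k)} (c : DefoConn δ nabla D) (φ : E ⟶ CohB1.tensorMod E Ω') :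
    (addConn c φ).conn = c.conn + (ab X).map (D.π ≫ φ ≫ tm Ω' (eps D)) := rfl

section Flat

variable (Ω')

/-- The extension of a first-order deformation of a vector bundle stays exact after tensoring. -/
theorem shortExact_tm (hE : FlatMod.IsFinLocFree E) (D : Defo E (dual k k)) :
    ((sc D).map (DCoh.tensorBi.flip.obj Ω')).ShortExact :=
  Groth.Agent.Dcoh.FlatSES.shortExact_tensor (shortExact D)
    (Groth.Agent.Dcoh.Spread.isFlat_of_isFinLocFree hE) Ω'

theorem mono_tm_eps (hE : FlatMod.IsFinLocFree E) (D : Defo E (dual k k)) : Mono (tm Ω' (eps D)) := by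
  have h := (shortExact_tm Ω' hE D).mono_f
  change Mono ((DCoh.tensorBi.map (eps D)).app Ω') at h
  rw [KoszTw.tensorBi_map_app] at h
  exact h

theorem exists_factor_tm (hE : FlatMod.IsFinLocFree E) (D : Defo E (dual k k)) {P : X.Modules}
    (β : P ⟶ CohB1.tensorMod D.sheaf Ω') (h : β ≫ tm Ω' D.π = 0) : ∃ β' : P ⟶ CohB1.tensorMod E Ω',
    β' ≫ tm Ω' (eps D) = β := by
  have hS := shortExact_tm Ω' hE D
  have := hS.mono_f
  have h' : β ≫ ((sc D).map (DCoh.tensorBi.flip.obj Ω')).g = 0 := by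
    change β ≫ (DCoh.tensorBi.map D.π).app Ω' = 0
    rw [KoszTw.tensorBi_map_app]
    exact h
  refine ⟨hS.exact.lift β h', ?_⟩
  have h2 := hS.exact.lift_f β h'
  change _ ≫ (DCoh.tensorBi.map (eps D)).app Ω' = β at h2
  rw [KoszTw.tensorBi_map_app] at h2
  exact h2

end Flat

theorem exists_desc_π {A : X.Modules} (D : Defo E (dual k k)) (β : D.sheaf ⟶ A) (h : eps D ≫ β = 0) :
    ∃ γ : E ⟶ A, D.π ≫ γ = β := by
  have hS := shortExact D
  have := hS.epi_g
  exact ⟨hS.exact.desc β h, hS.exact.g_desc β h⟩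

theorem addConn_injective (hE : FlatMod.IsFinLocFree E) {D : Defo E (dual k k)} (c : DefoConn δ nabla D) :
    Function.Injective (addConn c) := by
  intro φ ψ h
  have h1 : (addConn c φ).conn = (addConn c ψ).conn := by rw [h]
  rw [addConn_conn, addConn_conn, add_right_inj] at h1
  have h2 := (ab X).map_injective h1
  have := mono_tm_eps Ω' hE D
  rw [cancel_epi, cancel_mono] at h2
  exact h2

theorem addConn_surjective (hE : FlatMod.IsFinLocFree E) {D : Defo E (dual k k)} (c : DefoConn δ nabla D) :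
    Function.Surjective (addConn c) := by
  intro c'
  obtain ⟨β, hβ⟩ := exists_sub c.isConn c'.isConn
  have h1 : β ≫ tm Ω' D.π = 0 := by
    apply (ab X).map_injective
    rw [Functor.map_comp, hβ, Preadditive.sub_comp, conn_tm_π, conn_tm_π, sub_self, Functor.map_zero]
  obtain ⟨β', rfl⟩ := exists_factor_tm Ω' hE D β h1
  have := mono_tm_eps Ω' hE D
  have h2 : eps D ≫ β' = 0 := by
    rw [← cancel_mono (tm Ω' (eps D)), zero_comp]
    apply (ab X).map_injective
    rw [Category.assoc, Functor.map_comp, hβ, Preadditive.comp_sub, ← eps_conn, ← eps_conn, sub_self,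
      Functor.map_zero]
  obtain ⟨φ, rfl⟩ := exists_desc_π D β' h2
  refine ⟨φ, DefoConn_ext ?_⟩
  rw [addConn_conn, ← Category.assoc, hβ, add_sub_cancel]

/-- Deformations of a connection over a first-order deformation form a torsor under `Hom(E, E ⊗ Ω')`. -/
theorem exists_equiv (hE : FlatMod.IsFinLocFree E) {D : Defo E (dual k k)} (ι : E ⟶ D.sheaf)
    (hι : D.π ≫ ι = D.act (ep k)) (c₀ : DefoConn δ nabla D) :
    ∃ Φ : DefoConn δ nabla D ≃ (E ⟶ CohB1.tensorMod E Ω'),
      ∀ c : DefoConn δ nabla D, c.conn - c₀.conn = (ab X).map (D.π ≫ Φ c ≫ tm Ω' ι) := by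
  obtain rfl := eps_unique D ι hι
  refine ⟨(Equiv.ofBijective (addConn c₀) ⟨addConn_injective hE c₀, addConn_surjective hE c₀⟩).symm, fun c => ?_⟩
  obtain ⟨φ, rfl⟩ := addConn_surjective hE c₀ c
  have h : (Equiv.ofBijective (addConn c₀) ⟨addConn_injective hE c₀, addConn_surjective hE c₀⟩).symm
      (addConn c₀ φ) = φ := Equiv.symm_apply_apply _ φ
  rw [h, addConn_conn, add_sub_cancel_left]

end Defo

end K927.DefoSh
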