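import Groth.Agent.DefoSh.K927.Conn

/-!
# Transport of deformations of a connection; the trivial deformation carries a connection
-/

set_option autoImplicit false
universe u

open CategoryTheory CategoryTheory.Limits AlgebraicGeometry TopologicalSpace Opposite DefoSh
open ArtFun ArtFun.Art

namespace K927.DefoSh

attribute [local instance] ab_additive ab_faithful ab_preservesFiniteColimits

variable {X : Scheme.{u}} {M N P Ω' : X.Modules} {k : Type u} [Field k] [X.Over (Spec (CommRingCat.of k))]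
  {δ : OmegaSh.Der (X ↘ Spec (CommRingCat.of k)) Ω'} {E : X.Modules}
  {nabla : Coh.toAb E ⟶ Coh.toAb (CohB1.tensorMod E Ω')}

theorem exists_factor_eps (D : Defo E (dual k k)) {A : X.Modules} (β : A ⟶ D.sheaf) (h : β ≫ D.π = 0) :
    ∃ γ : A ⟶ E, γ ≫ eps D = β := by
  have hS := shortExact D
  have := hS.mono_f
  exact ⟨hS.exact.lift β h, hS.exact.lift_f β h⟩

/-- The horizontality of `1 + π ≫ S ≫ ε`. -/
theorem horizontal_iff (D : Defo E (dual k k)) (c c' : DefoConn δ nabla D) (s : E ⟶ E) (φ : D.sheaf ⟶ D.sheaf)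
    (hφ : φ = 𝟙 _ + D.π ≫ s ≫ eps D) :
    ConnSh.IsHorizontal c.conn c'.conn φ ↔
      c'.conn - c.conn = (ab X).map D.π ≫ (nabla ≫ (ab X).map (tm Ω' s) - (ab X).map s ≫ nabla) ≫
        (ab X).map (tm Ω' (eps D)) := by
  subst hφ
  rw [isHorizontal_iff]
  change _ ≫ (ab X).map (tm Ω' _) = _ ↔ _
  rw [tm_add, tm_id, tm_comp, tm_comp, Functor.map_add, Functor.map_add, CategoryTheory.Functor.map_id,
    CategoryTheory.Functor.map_id, Preadditive.comp_add, Preadditive.add_comp, Category.comp_id, Category.id_comp,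
    Functor.map_comp, Functor.map_comp, Functor.map_comp, Functor.map_comp, reassoc_of% (conn_tm_π c),
    Category.assoc, Category.assoc, ← eps_conn, Preadditive.sub_comp, Preadditive.comp_sub, Category.assoc,
    Category.assoc]
  rw [sub_eq_sub_iff_add_eq_add, add_comm _ c.conn, eq_comm]

/-- Every automorphism of a first-order deformation is `1 + π ≫ s ≫ ε`. -/
theorem exists_eq_add {D : Defo E (dual k k)} (φ : D.sheaf ⟶ D.sheaf) (h : eps D ≫ φ = eps D)
    (hπ : φ ≫ D.π = D.π) : ∃ s : E ⟶ E, φ = 𝟙 _ + D.π ≫ s ≫ eps D := by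
  obtain ⟨γ, hγ⟩ := exists_factor_eps D (φ - 𝟙 _) (by rw [Preadditive.sub_comp, hπ, Category.id_comp, sub_self])
  have h1 : eps D ≫ γ = 0 := by
    rw [← cancel_mono (eps D), Category.assoc, hγ, Preadditive.comp_sub, h, Category.comp_id, sub_self, zero_comp]
  obtain ⟨s, rfl⟩ := exists_desc_π D γ h1
  exact ⟨s, by rw [← Category.assoc, hγ, add_sub_cancel]⟩

theorem transport_iff (D : Defo E (dual k k)) (ι : E ⟶ D.sheaf)
    (hι : D.π ≫ ι = D.act (ep k)) (c c' : DefoConn δ nabla D) :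
    DefoConn.Transport c c' ↔ ∃ s : E ⟶ E,
      c'.conn - c.conn = (ab X).map D.π ≫ (nabla ≫ (ab X).map (tm Ω' s) - (ab X).map s ≫ nabla) ≫
        (ab X).map (tm Ω' ι) := by
  obtain rfl := eps_unique D ι hι
  constructor
  · rintro ⟨e, he⟩
    obtain ⟨s, hs⟩ := exists_eq_add e.iso.hom (eps_comp _ (e.act_hom _) e.hom_π) e.hom_π
    exact ⟨s, (horizontal_iff D c c' s _ hs).1 he⟩
  · rintro ⟨s, hs⟩
    refine ⟨isoOfEps (𝟙 _ + D.π ≫ s ≫ eps D) ?_ ?_, (horizontal_iff D c c' s _ rfl).2 hs⟩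
    · rw [Preadditive.comp_add, Category.comp_id, ← Category.assoc, eps_π, zero_comp, add_zero]
    · rw [Preadditive.add_comp, Category.id_comp, Category.assoc, Category.assoc, eps_π, comp_zero, comp_zero,
        add_zero]

/-! ### Scalars are horizontal -/

theorem der_scalar (U : X.Opens) (c : k) :
    δ.app U (X.presheaf.map (homOfLE (le_top : U ≤ ⊤)).op
      (Coh.toGlobal (X ↘ Spec (CommRingCat.of k)) c)) = 0 := by
  rw [OmegaSh.Der.app_apply]
  have h1 := δ.d_map (homOfLE (le_top : U ≤ ⊤)).op (Coh.toGlobal (X ↘ Spec (CommRingCat.of k)) c)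
  have h2 : δ.d (X := op (⊤ : X.Opens)) (Coh.toGlobal (X ↘ Spec (CommRingCat.of k)) c) = 0 :=
    δ.d_app (X := op (⊤ : (Spec (CommRingCat.of k)).Opens)) ((Scheme.ΓSpecIso (CommRingCat.of k)).inv.hom c)
  rw [h2] at h1
  exact h1.trans (map_zero _)

theorem scalar_conn {n : Coh.toAb M ⟶ Coh.toAb (CohB1.tensorMod M Ω')} (hn : ConnSh.IsConn δ M n) (c : k) :
    n ≫ (ab X).map (tm Ω' (c • 𝟙 M)) = (ab X).map (c • 𝟙 M) ≫ n := by
  refine ab_hom_ext fun U m => ?_
  rw [tm_smul, tm_id, secApp_comp, secApp_comp]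
  have h1 : ConnSh.secApp ((ab X).map (c • 𝟙 M)) U m = (X.presheaf.map (homOfLE (le_top : U ≤ ⊤)).op
      (Coh.toGlobal (X ↘ Spec (CommRingCat.of k)) c)) • m := KLin.smul_app_apply c (𝟙 M) U m
  have h2 : ∀ x, ConnSh.secApp ((ab X).map (c • 𝟙 (CohB1.tensorMod M Ω'))) U x =
      (X.presheaf.map (homOfLE (le_top : U ≤ ⊤)).op (Coh.toGlobal (X ↘ Spec (CommRingCat.of k)) c)) • x :=
    fun x => KLin.smul_app_apply c (𝟙 (CohB1.tensorMod M Ω')) U x
  rw [h1, h2, hn, der_scalar]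
  have h3 : SecTwist.tmul M Ω' U m (0 : Γ(Ω', U)) = 0 := Groth.Agent.Ega2.Tens.tmul_zero (M := M) (N := Ω') m
  rw [h3, add_zero]

/-! ### The connection on `E ⊕ εE` -/

variable (nabla) in
/-- `∇ ⊕ ∇` on `E ⊞ E`. -/
noncomputable def conn2 : Coh.toAb (E ⊞ E) ⟶ Coh.toAb (CohB1.tensorMod (E ⊞ E) Ω') :=
  (ab X).map (biprod.fst : E ⊞ E ⟶ E) ≫ nabla ≫ (ab X).map (tm Ω' (biprod.inl : E ⟶ E ⊞ E)) +
    (ab X).map (biprod.snd : E ⊞ E ⟶ E) ≫ nabla ≫ (ab X).map (tm Ω' (biprod.inr : E ⟶ E ⊞ E))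

theorem isConn_aux (hn : ConnSh.IsConn δ E nabla) (p : M ⟶ E) (i : E ⟶ N) (U : X.Opens) (t : Γ(X, U))
    (m : M.val.obj (op U)) :
    ConnSh.secApp ((ab X).map p ≫ nabla ≫ (ab X).map (tm Ω' i)) U (t • m) =
      t • ConnSh.secApp ((ab X).map p ≫ nabla ≫ (ab X).map (tm Ω' i)) U m +
        SecTwist.tmul N Ω' U ((p ≫ i).app U m) (δ.app U t) := by
  rw [secApp_comp, secApp_comp, secApp_comp, secApp_comp]
  have h1 : ConnSh.secApp ((ab X).map p) U (t • m) = t • ConnSh.secApp ((ab X).map p) U m := p.app_smul t m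
  have h2 : ∀ x, ConnSh.secApp ((ab X).map (tm Ω' i)) U (t • x) = t • ConnSh.secApp ((ab X).map (tm Ω' i)) U x :=
    fun x => (tm Ω' i).app_smul t x
  rw [h1, hn, map_add, h2]
  congr 1
  exact KoszTw.tensorMap_tmul i (𝟙 Ω') U (p.app U m) (δ.app U t)

theorem isConn_conn2 (hn : ConnSh.IsConn δ E nabla) : ConnSh.IsConn δ (E ⊞ E) (conn2 nabla) := by
  intro U t m
  rw [conn2, secApp_add, secApp_add, isConn_aux hn, isConn_aux hn, smul_add]
  have h : SecTwist.tmul (E ⊞ E) Ω' U m (δ.app U t) =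
      SecTwist.tmul (E ⊞ E) Ω' U (((biprod.fst : E ⊞ E ⟶ E) ≫ biprod.inl).app U m) (δ.app U t) +
      SecTwist.tmul (E ⊞ E) Ω' U (((biprod.snd : E ⊞ E ⟶ E) ≫ biprod.inr).app U m) (δ.app U t) := by
    have h1 := congrArg (fun φ : E ⊞ E ⟶ E ⊞ E => φ.app U m) (biprod.total (X := E) (Y := E))
    have h2 : m = (((biprod.fst : E ⊞ E ⟶ E) ≫ biprod.inl).app U m) +
      (((biprod.snd : E ⊞ E ⟶ E) ≫ biprod.inr).app U m) := h1.symm
    refine (congrArg (fun m' => SecTwist.tmul (E ⊞ E) Ω' U m' (δ.app U t)) h2).trans ?_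
    exact Groth.Agent.Ega2.Tens.add_tmul _ _ _
  rw [h]
  abel

theorem conn2_fst : conn2 nabla ≫ (ab X).map (tm Ω' (biprod.fst : E ⊞ E ⟶ E)) =
    (ab X).map (biprod.fst : E ⊞ E ⟶ E) ≫ nabla := by
  rw [conn2, Preadditive.add_comp, Category.assoc, Category.assoc, Category.assoc, Category.assoc,
    ← Functor.map_comp, ← Functor.map_comp, ← tm_comp, ← tm_comp, biprod.inl_fst, biprod.inr_fst, tm_id, tm_zero,
    Functor.map_zero, comp_zero, comp_zero, add_zero, CategoryTheory.Functor.map_id, Category.comp_id]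

theorem inr_conn2 : (ab X).map (biprod.inr : E ⟶ E ⊞ E) ≫ conn2 nabla =
    nabla ≫ (ab X).map (tm Ω' (biprod.inr : E ⟶ E ⊞ E)) := by
  have h1 : (ab X).map (biprod.inr : E ⟶ E ⊞ E) ≫ (ab X).map (biprod.fst : E ⊞ E ⟶ E) = 0 := by
    rw [← Functor.map_comp, biprod.inr_fst, Functor.map_zero]
  have h2 : (ab X).map (biprod.inr : E ⟶ E ⊞ E) ≫ (ab X).map (biprod.snd : E ⊞ E ⟶ E) = 𝟙 _ := by
    rw [← Functor.map_comp, biprod.inr_snd, CategoryTheory.Functor.map_id]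
  rw [conn2, Preadditive.comp_add, reassoc_of% h1, reassoc_of% h2, zero_comp, zero_add]

theorem conn2_act (hn : ConnSh.IsConn δ E nabla) (x y : k) :
    conn2 nabla ≫ (ab X).map (tm Ω' (x • 𝟙 (E ⊞ E) + y • ((biprod.fst : E ⊞ E ⟶ E) ≫ biprod.inr))) =
      (ab X).map (x • 𝟙 (E ⊞ E) + y • ((biprod.fst : E ⊞ E ⟶ E) ≫ biprod.inr)) ≫ conn2 nabla := by
  have h1 : y • ((biprod.fst : E ⊞ E ⟶ E) ≫ biprod.inr) =
      (y • 𝟙 (E ⊞ E)) ≫ ((biprod.fst : E ⊞ E ⟶ E) ≫ (biprod.inr : E ⟶ E ⊞ E)) := by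
    rw [Linear.smul_comp, Category.id_comp]
  rw [tm_add, Functor.map_add, Functor.map_add, Preadditive.comp_add, Preadditive.add_comp,
    scalar_conn (isConn_conn2 hn), h1, tm_comp, Functor.map_comp, Functor.map_comp, ← Category.assoc,
    scalar_conn (isConn_conn2 hn), Category.assoc, Category.assoc, tm_comp, Functor.map_comp, Functor.map_comp,
    reassoc_of% (conn2_fst (nabla := nabla)), Category.assoc, inr_conn2]

/-- The connection `∇ ⊕ ∇` on the trivial deformation. -/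
noncomputable def trivConn (hn : ConnSh.IsConn δ E nabla) : DefoConn δ nabla (Defo.trivDual k E) where
  conn := conn2 nabla
  isConn := isConn_conn2 hn
  act_horizontal a := by
    refine isHorizontal_iff.2 ?_
    obtain ⟨x, y, h⟩ := act_eq' (E := E) a
    have h1 := h (Defo.trivDual k E)
    rw [eps_trivDual] at h1
    have h2 : ((Defo.trivDual k E).act a : E ⊞ E ⟶ E ⊞ E) =
        x • 𝟙 (E ⊞ E) + y • ((biprod.fst : E ⊞ E ⟶ E) ≫ biprod.inr) := h1
    have key : ∀ φ : E ⊞ E ⟶ E ⊞ E, φ = x • 𝟙 (E ⊞ E) + y • ((biprod.fst : E ⊞ E ⟶ E) ≫ biprod.inr) →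
        conn2 nabla ≫ (ab X).map (tm Ω' φ) = (ab X).map φ ≫ conn2 nabla := by
      rintro _ rfl
      exact conn2_act hn x y
    exact key _ h2
  π_horizontal := isHorizontal_iff.2 conn2_fst

end K927.DefoSh
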