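import Groth.Agent.DefoSh.K927.Base
import Groth.Agent.Sga7.H745.ExtReal

/-!
# First-order deformations of a module and `Ext¹(E, E)`

`extEquiv : FirstOrder k E ≃ Ext E E 1`, the class of a deformation being the class of `0 → E → D.sheaf → E → 0`.
-/

set_option autoImplicit false
universe w u

open CategoryTheory CategoryTheory.Limits CategoryTheory.Abelian AlgebraicGeometry TopologicalSpace Opposite DefoSh
open ArtFun ArtFun.Art

namespace K927.DefoSh

variable {k : Type u} [Field k] {X : Scheme.{u}} [X.Over (Spec (CommRingCat.of k))] {E : X.Modules}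
  [HasExt.{w} X.Modules]

theorem extClass_eq_of_hom {D D' : Defo E (dual k k)} (φ : D.sheaf ⟶ D'.sheaf)
    (h : eps D ≫ φ = eps D') (hπ : φ ≫ D'.π = D.π) :
    ((shortExact D).extClass : Ext.{w} E E 1) = (shortExact D').extClass := by
  have h3 := ShortComplex.ShortExact.extClass_naturality (shortExact D) (shortExact D')
    { τ₁ := 𝟙 E
      τ₂ := φ
      τ₃ := 𝟙 E
      comm₁₂ := (Category.id_comp _).trans h.symm
      comm₂₃ := hπ.trans (Category.comp_id _).symm }
  dsimp at h3
  rw [Ext.comp_mk₀_id, Ext.mk₀_id_comp] at h3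
  exact h3

variable (k E) in
/-- The extension class of a first-order deformation. -/
noncomputable def extMap : FirstOrder k E → Ext.{w} E E 1 :=
  Quotient.lift (fun D : Defo E (dual k k) => ((shortExact D).extClass : Ext.{w} E E 1)) (by
    intro D D' h
    obtain ⟨φ, h1, h2⟩ := (cl_eq_iff D D').1 (Quotient.sound h)
    exact extClass_eq_of_hom φ h1 h2)

theorem extMap_cl (D : Defo E (dual k k)) : extMap.{w} k E D.cl = (shortExact D).extClass := rfl

theorem extMap_injective : Function.Injective (extMap.{w} k E) := by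
  intro a b hab
  obtain ⟨D, rfl⟩ := Quotient.exists_rep a
  obtain ⟨D', rfl⟩ := Quotient.exists_rep b
  change (shortExact D).extClass = (shortExact D').extClass at hab
  obtain ⟨φ, h1, h2⟩ := Groth.Agent.Sga7.H745.ExtReal.exists_hom_of_extClass_comp (shortExact D) (shortExact D')
    (𝟙 E) ((Ext.comp_mk₀_id _).trans hab)
  exact (cl_eq_iff D D').2 ⟨φ, h1.trans (Category.id_comp _), h2⟩

theorem extMap_surjective : Function.Surjective (extMap.{w} k E) := by
  intro e
  obtain ⟨F, i, p, w, hS, rfl⟩ := Groth.Agent.Sga7.H745.ExtReal.exists_extClass e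
  refine ⟨(ofExt k hS).cl, ?_⟩
  rw [extMap_cl]
  have h := eps_ofExt (k := k) hS
  have key : ∀ (j : E ⟶ F) (w' : j ≫ p = 0) (h' : (ShortComplex.mk j p w').ShortExact), j = i →
      (h'.extClass : Ext.{w} E E 1) = hS.extClass := by
    rintro j w' h' rfl
    rfl
  exact key _ _ (shortExact (ofExt k hS)) h

variable (k E) in
/-- First-order deformations up to isomorphism are the extensions of `E` by `E`. -/
noncomputable def extEquiv : FirstOrder k E ≃ Ext.{w} E E 1 :=
  Equiv.ofBijective (extMap k E) ⟨extMap_injective, extMap_surjective⟩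

theorem extClass_eq_zero_of_section {C : Type*} [Category C] [Abelian C] [HasExt.{w} C] {P Q F : C}
    {i : P ⟶ F} {p : F ⟶ Q} {w' : i ≫ p = 0} (hS : (ShortComplex.mk i p w').ShortExact) (s : Q ⟶ F)
    (hs : s ≫ p = 𝟙 Q) : (hS.extClass : Ext.{w} Q P 1) = 0 := by
  have h1 : (Ext.mk₀ p).comp (hS.extClass : Ext.{w} Q P 1) (zero_add 1) = 0 := hS.comp_extClass
  rw [← Ext.mk₀_id_comp (hS.extClass : Ext.{w} Q P 1), ← hs, ← Ext.mk₀_comp_mk₀_assoc, h1, Ext.comp_zero]

theorem extEquiv_trivDual : extEquiv.{w} k E (Defo.trivDual k E).cl = 0 :=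
  extClass_eq_zero_of_section (shortExact (Defo.trivDual k E)) (biprod.inl : E ⟶ E ⊞ E) biprod.inl_fst

theorem extEquiv_cl (D : Defo E (dual k k)) (i : E ⟶ D.sheaf)
    (hi : D.π ≫ i = D.act (DualNumber.eps : DualNumber k))
    (h0 : i ≫ D.π = 0) (hS : (ShortComplex.mk i D.π h0).ShortExact) :
    extEquiv.{w} k E D.cl = hS.extClass := by
  obtain rfl := eps_unique D i hi
  rfl

end K927.DefoSh
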