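import Groth.Agent.DefoSh.K927.Base
import Groth.Agent.Dcoh.LocLift

/-!
# First-order deformations of a vector bundle are locally trivial
-/

set_option autoImplicit false
universe u

open CategoryTheory CategoryTheory.Limits AlgebraicGeometry TopologicalSpace Opposite DefoSh
open ArtFun ArtFun.Art
open Groth.Agent.Dcoh.Restrict Groth.Agent.Dcoh.LocLift

namespace K927.DefoSh

variable {k : Type u} [Field k] {X : Scheme.{u}} [X.Over (Spec (CommRingCat.of k))]

/-- Restriction of modules to an open subscheme. -/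
noncomputable abbrev rf (V : X.Opens) := Scheme.Modules.restrictFunctor V.ι

theorem restrict_smulModΓ (V : X.Opens) (M : X.Modules) (r : Coh.Γtop X) :
    (rf V).map (Formal.smulModΓ M r) = Formal.smulModΓ ((rf V).obj M)
      (X.presheaf.map (homOfLE (le_top : V.ι ''ᵁ ⊤ ≤ ⊤)).op r) := by
  ext W m
  have h1 : (V : Scheme.{u}).presheaf.map (homOfLE (le_top : W ≤ ⊤)).op
      (X.presheaf.map (homOfLE (le_top : V.ι ''ᵁ ⊤ ≤ ⊤)).op r) =
      X.presheaf.map (homOfLE (le_top : V.ι ''ᵁ W ≤ ⊤)).op r :=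
    (ConcreteCategory.congr_hom (X.presheaf.map_comp
      (homOfLE (le_top : V.ι ''ᵁ ⊤ ≤ ⊤)).op
      (V.ι.opensFunctor.map (homOfLE (le_top : W ≤ ⊤))).op) _).symm
  refine (KLin.smulModΓ_app_apply M r (V.ι ''ᵁ W) m).trans (Eq.trans ?_
    (KLin.smulModΓ_app_apply ((rf V).obj M) _ W m).symm)
  have h2 : ∀ t : Γ(X, V.ι ''ᵁ W), t • (show Γ(M, V.ι ''ᵁ W) from m) =
      (show Γ(M, V.ι ''ᵁ W) from ((show Γ((V : Scheme.{u}), W) from t) •
        (show Γ(M.restrict V.ι, W) from m))) := by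
    intro t
    have h3 : (show Γ(M, V.ι ''ᵁ W) from ((show Γ((V : Scheme.{u}), W) from t) •
        (show Γ(M.restrict V.ι, W) from m))) =
        ((V.ι.appIso W).inv t) • (show Γ(M, V.ι ''ᵁ W) from m) := rfl
    rw [h3, Scheme.Opens.ι_appIso]
    rfl
  rw [h1]
  exact h2 _

/-- Morphisms over `V` commute with the restriction of the scalars of `k`. -/
theorem restrict_smul_comm (V : X.Opens) {M N : X.Modules} (c : k) (φ : (rf V).obj M ⟶ (rf V).obj N) :
    (rf V).map (c • 𝟙 M) ≫ φ = φ ≫ (rf V).map (c • 𝟙 N) := by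
  rw [KLin.smul_id, KLin.smul_id, Formal.smulMod, Formal.smulMod, restrict_smulModΓ, restrict_smulModΓ]
  exact (KLin.comp_smulModΓ _ _).symm

variable {E : X.Modules}

theorem act_eq (a : (dual k k : Art k k)) :
    ∃ c c' : k, ∀ D : Defo E (dual k k),
      (D.act a : D.sheaf ⟶ D.sheaf) = c • 𝟙 D.sheaf + c' • (D.π ≫ eps D) := by
  obtain ⟨c, hc⟩ := eq_add a
  refine ⟨(dual k k : Art k k).res a, c, fun D' => ?_⟩
  have h1 : (D'.act a : End D'.sheaf) = D'.act (algebraMap k (dual k k) ((dual k k : Art k k).res a)) +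
      D'.act (algebraMap k (dual k k) c * ep k) := by
    rw [← map_add, ← hc]
  refine h1.trans ?_
  rw [act_mul, act_eq_smul, act_eq_smul, Linear.comp_smul, Category.comp_id, ← π_eps]

/-- Commuting with `ε` implies commuting with all of `k[ε]`, for morphisms over an open subscheme. -/
theorem restrict_comm_of_ep (V : X.Opens) {D D' : Defo E (dual k k)}
    (φ : (rf V).obj D.sheaf ⟶ (rf V).obj D'.sheaf)
    (h : (rf V).map (D.π ≫ eps D) ≫ φ = φ ≫ (rf V).map (D'.π ≫ eps D')) (a : (dual k k : Art k k)) :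
    (rf V).map (D.act a) ≫ φ = φ ≫ (rf V).map (D'.act a) := by
  obtain ⟨c, c', h1⟩ := act_eq (E := E) a
  rw [h1 D, h1 D']
  have h3 : ∀ (D' : Defo E (dual k k)), c' • (D'.π ≫ eps D') =
      (c' • 𝟙 D'.sheaf) ≫ (D'.π ≫ eps D') := fun D' => by rw [Linear.smul_comp, Category.id_comp]
  rw [h3, h3, Functor.map_add, Functor.map_add, (rf V).map_comp (c' • 𝟙 D.sheaf), (rf V).map_comp (c' • 𝟙 D'.sheaf),
    Preadditive.add_comp,
    Preadditive.comp_add, restrict_smul_comm, Category.assoc, h, ← Category.assoc, restrict_smul_comm,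
    Category.assoc]

/-- A section of the reduction over `V` trivialises the deformation over `V`. -/
theorem exists_iso_of_section (V : X.Opens) (D : Defo E (dual k k))
    (σ : (rf V).obj E ⟶ (rf V).obj D.sheaf) (hσ : σ ≫ (rf V).map D.π = 𝟙 _) :
    ∃ e : (rf V).obj D.sheaf ≅ (rf V).obj (Defo.trivDual k E).sheaf,
      e.hom ≫ (rf V).map (Defo.trivDual k E).π = (rf V).map D.π ∧
      (∀ a : (dual k k : Art k k), (rf V).map (D.act a) ≫ e.hom =
        e.hom ≫ (rf V).map ((Defo.trivDual k E).act a)) ∧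
      (rf V).map (biprod.inl : E ⟶ E ⊞ E) ≫ e.inv = σ ∧
      (rf V).map (biprod.inr : E ⟶ E ⊞ E) ≫ e.inv = (rf V).map (eps D) := by
  let T := Defo.trivDual k E
  let θ : (rf V).obj T.sheaf ⟶ (rf V).obj D.sheaf :=
    (rf V).map (biprod.fst : E ⊞ E ⟶ E) ≫ σ + (rf V).map (biprod.snd : E ⊞ E ⟶ E) ≫ (rf V).map (eps D)
  have hfs : (rf V).map (biprod.inl : E ⟶ E ⊞ E) ≫ (rf V).map (biprod.fst : E ⊞ E ⟶ E) = 𝟙 _ := by
    rw [← Functor.map_comp, biprod.inl_fst, CategoryTheory.Functor.map_id]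
  have hfs' : (rf V).map (biprod.inl : E ⟶ E ⊞ E) ≫ (rf V).map (biprod.snd : E ⊞ E ⟶ E) = 0 := by
    rw [← Functor.map_comp, biprod.inl_snd, Functor.map_zero]
  have hsf : (rf V).map (biprod.inr : E ⟶ E ⊞ E) ≫ (rf V).map (biprod.fst : E ⊞ E ⟶ E) = 0 := by
    rw [← Functor.map_comp, biprod.inr_fst, Functor.map_zero]
  have hss : (rf V).map (biprod.inr : E ⟶ E ⊞ E) ≫ (rf V).map (biprod.snd : E ⊞ E ⟶ E) = 𝟙 _ := by
    rw [← Functor.map_comp, biprod.inr_snd, CategoryTheory.Functor.map_id]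
  have h1 : (rf V).map (biprod.inl : E ⟶ E ⊞ E) ≫ θ = σ := by
    change (rf V).map (biprod.inl : E ⟶ E ⊞ E) ≫ (_ + _) = _
    rw [Preadditive.comp_add, reassoc_of% hfs, reassoc_of% hfs', zero_comp, add_zero]
  have h2 : (rf V).map (biprod.inr : E ⟶ E ⊞ E) ≫ θ = (rf V).map (eps D) := by
    change (rf V).map (biprod.inr : E ⟶ E ⊞ E) ≫ (_ + _) = _
    rw [Preadditive.comp_add, reassoc_of% hsf, reassoc_of% hss, zero_comp, zero_add]
  have h3 : θ ≫ (rf V).map D.π = (rf V).map T.π := by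
    change ((rf V).map (biprod.fst : E ⊞ E ⟶ E) ≫ σ + (rf V).map (biprod.snd : E ⊞ E ⟶ E) ≫ (rf V).map (eps D) :
      (rf V).obj (E ⊞ E) ⟶ (rf V).obj D.sheaf) ≫ (rf V).map D.π = (rf V).map (biprod.fst : E ⊞ E ⟶ E)
    rw [Preadditive.add_comp, Category.assoc, hσ, Category.comp_id, Category.assoc, ← Functor.map_comp, eps_π,
      Functor.map_zero, comp_zero, add_zero]
  have hT := (shortExact T).map_of_exact (rf V)
  have hD := (shortExact D).map_of_exact (rf V)
  have h2' : (rf V).map (eps T) ≫ θ = (rf V).map (eps D) := by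
    rw [← h2]
    congr 2
    exact eps_trivDual
  let τ : (sc T).map (rf V) ⟶ (sc D).map (rf V) :=
    { τ₁ := 𝟙 _
      τ₂ := θ
      τ₃ := 𝟙 _
      comm₁₂ := (Category.id_comp _).trans h2'.symm
      comm₂₃ := h3.trans (Category.comp_id _).symm }
  have i1 : IsIso τ.τ₁ := inferInstanceAs (IsIso (𝟙 _))
  have i3 : IsIso τ.τ₃ := inferInstanceAs (IsIso (𝟙 _))
  have i2 : IsIso θ := ShortComplex.isIso₂_of_shortExact_of_isIso₁₃ τ hT hD
  have hep : (rf V).map (T.π ≫ eps T) ≫ θ = θ ≫ (rf V).map (D.π ≫ eps D) := by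
    rw [Functor.map_comp, Functor.map_comp, Category.assoc, h2', ← Category.assoc, h3]
  refine ⟨(asIso θ).symm, ?_, ?_, ?_, ?_⟩
  · rw [Iso.symm_hom, Iso.inv_comp_eq]
    exact h3.symm
  · intro a
    rw [Iso.symm_hom, Iso.comp_inv_eq, Category.assoc, Iso.eq_inv_comp]
    exact (restrict_comm_of_ep V θ hep a).symm
  · exact h1
  · exact h2

end K927.DefoSh
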